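import Groth.Prelude.Def_VecGrp
import Mathlib.AlgebraicGeometry.Group.Affine
import Mathlib.RingTheory.Localization.BaseChange
import Mathlib.LinearAlgebra.GeneralLinearGroup.Basic

/-! Group modules over affine groups and comodules; locality of vanishing for a group module. -/

set_option autoImplicit false
universe u

open CategoryTheory AlgebraicGeometry MonoidalCategory CartesianMonoidalCategory MonObj GrpObj
open scoped TensorProduct
open WithConv

namespace Groth.Agent.GModComod

variable {R : Type u} [CommRing R] {A : Type u} [CommRing A] [HopfAlgebra R A]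
variable {E : Type u} [AddCommGroup E] [Module R E]
variable {B B' : Type u} [CommRing B] [Algebra R B] [CommRing B'] [Algebra R B']

variable (R A) in
/-- Spec A over Spec R. -/
noncomputable abbrev specG : Over (Spec (CommRingCat.of R)) :=
  (Spec (CommRingCat.of A)).asOver (Spec (CommRingCat.of R))

/-- The algebra map of a point. -/
noncomputable def ptHom (g : VecGrp.pt R B ⟶ specG R A) : A →ₐ[R] B := (Spec.mapMulEquiv.symm g).ofConv

/-- The point of an algebra map. -/
noncomputable def toPt (f : WithConv (A →ₐ[R] B)) : VecGrp.pt R B ⟶ specG R A := Spec.mapMulEquiv f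

theorem ptHom_toPt (f : WithConv (A →ₐ[R] B)) : ptHom (toPt f) = f.ofConv :=
  congrArg WithConv.ofConv (Spec.mapMulEquiv.symm_apply_apply f)

theorem toPt_ptHom (g : VecGrp.pt R B ⟶ specG R A) : toPt (toConv (ptHom g)) = g :=
  Spec.mapMulEquiv.apply_symm_apply g

theorem ptMap_comp_toPt (φ : B →ₐ[R] B') (f : WithConv (A →ₐ[R] B)) :
    VecGrp.ptMap φ ≫ toPt f = toPt (toConv (φ.comp f.ofConv)) := by
  ext1
  change Spec.map _ ≫ Spec.map _ = Spec.map _
  rw [← Spec.map_comp]
  rfl

theorem ptHom_comp (φ : B →ₐ[R] B') (g : VecGrp.pt R B ⟶ specG R A) :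
    ptHom (VecGrp.ptMap φ ≫ g) = φ.comp (ptHom g) := by
  conv_lhs => rw [← toPt_ptHom g, ptMap_comp_toPt, ptHom_toPt]

/-- The action of an algebra-valued point through a coaction. -/
noncomputable def act (δ : E →ₗ[R] E ⊗[R] A) (f : A →ₐ[R] B) : B ⊗[R] E →ₗ[B] B ⊗[R] E :=
  LinearMap.liftBaseChange B
    ((TensorProduct.comm R E B).toLinearMap ∘ₗ f.toLinearMap.lTensor E ∘ₗ δ)

theorem act_one_tmul (δ : E →ₗ[R] E ⊗[R] A) (f : A →ₐ[R] B) (x : E) :
    act δ f (1 ⊗ₜ x) = TensorProduct.comm R E B (f.toLinearMap.lTensor E (δ x)) := by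
  simp [act]

theorem wmap_comm_lTensor (φ : B →ₐ[R] B') (f : A →ₗ[R] B) (z : E ⊗[R] A) :
    VecGrp.Wmap φ (TensorProduct.comm R E B (f.lTensor E z)) =
      TensorProduct.comm R E B' ((φ.toLinearMap ∘ₗ f).lTensor E z) := by
  induction z with
  | zero => simp
  | tmul y a => simp
  | add z w hz hw => simp only [map_add, hz, hw]

theorem act_natural (δ : E →ₗ[R] E ⊗[R] A) (f : A →ₐ[R] B) (φ : B →ₐ[R] B') (x : B ⊗[R] E) :
    VecGrp.Wmap φ (act δ f x) = act δ (φ.comp f) (VecGrp.Wmap φ x) := by
  induction x with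
  | zero => simp
  | add z w hz hw => simp only [map_add, hz, hw]
  | tmul b x =>
    rw [VecGrp.Wmap_tmul, show b ⊗ₜ[R] x = b • ((1 : B) ⊗ₜ[R] x) by simp [TensorProduct.smul_tmul'],
      show φ b ⊗ₜ[R] x = φ b • ((1 : B') ⊗ₜ[R] x) by simp [TensorProduct.smul_tmul'],
      map_smul (act δ f), VecGrp.Wmap_smul, map_smul (act δ (φ.comp f)), act_one_tmul, act_one_tmul,
      wmap_comm_lTensor]
    rfl

theorem act_act_one_tmul (δ : E →ₗ[R] E ⊗[R] A) (f g : A →ₐ[R] B) (x : E) :
    act δ f (act δ g (1 ⊗ₜ x)) = TensorProduct.comm R E B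
      (((LinearMap.mul' R B) ∘ₗ TensorProduct.map f.toLinearMap g.toLinearMap).lTensor E
        (TensorProduct.assoc R E A A (δ.rTensor A (δ x)))) := by
  rw [act_one_tmul δ g]
  generalize δ x = z
  induction z with
  | zero => simp
  | add z w hz hw => simp only [map_add, hz, hw]
  | tmul y a =>
    rw [LinearMap.lTensor_tmul, TensorProduct.comm_tmul, LinearMap.rTensor_tmul,
      show g.toLinearMap a ⊗ₜ[R] y = g a • ((1 : B) ⊗ₜ[R] y) by simp [TensorProduct.smul_tmul'],
      map_smul, act_one_tmul]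
    generalize δ y = z
    induction z with
    | zero => simp
    | add z w hz hw => simp only [map_add, smul_add, TensorProduct.add_tmul, hz, hw]
    | tmul e b => simp [TensorProduct.smul_tmul', mul_comm]

section Comodule

variable (δ : E →ₗ[R] E ⊗[R] A)
  (hco : (TensorProduct.assoc R E A A).toLinearMap ∘ₗ δ.rTensor A ∘ₗ δ =
    (CoalgebraStruct.comul (R := R) (A := A)).lTensor E ∘ₗ δ)
  (hcu : (CoalgebraStruct.counit (R := R) (A := A)).lTensor E ∘ₗ δ = (TensorProduct.mk R E R).flip 1)

include hco in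
theorem act_mul (f g : WithConv (A →ₐ[R] B)) :
    act δ (f * g).ofConv = act δ f.ofConv ∘ₗ act δ g.ofConv := by
  refine LinearMap.restrictScalars_injective R (TensorProduct.ext' fun b x => ?_)
  simp only [LinearMap.restrictScalars_apply, LinearMap.comp_apply]
  rw [show b ⊗ₜ[R] x = b • ((1 : B) ⊗ₜ[R] x) by simp [TensorProduct.smul_tmul'], map_smul, map_smul,
    map_smul, act_act_one_tmul, act_one_tmul]
  congr 2
  have h := LinearMap.congr_fun hco x
  simp only [LinearMap.comp_apply, LinearEquiv.coe_coe] at h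
  rw [h, ← LinearMap.lTensor_comp_apply]
  congr 2

include hcu in
theorem act_one : act δ (1 : WithConv (A →ₐ[R] B)).ofConv = LinearMap.id := by
  refine LinearMap.restrictScalars_injective R (TensorProduct.ext' fun b x => ?_)
  simp only [LinearMap.restrictScalars_apply, LinearMap.id_apply]
  rw [show b ⊗ₜ[R] x = b • ((1 : B) ⊗ₜ[R] x) by simp [TensorProduct.smul_tmul'], map_smul,
    act_one_tmul]
  congr 1
  have h := congrArg (fun z => TensorProduct.comm R E B ((Algebra.linearMap R B).lTensor E z))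
    (LinearMap.congr_fun hcu x)
  simp only [LinearMap.comp_apply, ← LinearMap.lTensor_comp_apply] at h
  refine Eq.trans ?_ (h.trans (by simp))
  congr 2

/-- The group module of a comodule. -/
noncomputable def gmodOfComod : VecGrp.GMod (specG R A) E where
  ρ B _ _ :=
    ((LinearMap.GeneralLinearGroup.generalLinearEquiv B (B ⊗[R] E)).toMonoidHom.comp
      (MonoidHom.toHomUnits
        ({ toFun := fun g => act δ (ptHom g)
           map_one' := by
             have e : toConv (ptHom (1 : VecGrp.pt R B ⟶ specG R A)) = 1 :=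
               map_one (Spec.mapMulEquiv (R := R) (S := A) (T := B)).symm
             exact (congrArg (fun f => act δ (WithConv.ofConv f)) e).trans (act_one δ hcu)
           map_mul' := fun g g' => by
             have e : toConv (ptHom (g * g')) = toConv (ptHom g) * toConv (ptHom g') :=
               map_mul (Spec.mapMulEquiv (R := R) (S := A) (T := B)).symm g g'
             exact (congrArg (fun f => act δ (WithConv.ofConv f)) e).trans (act_mul δ hco _ _) } :
          (VecGrp.pt R B ⟶ specG R A) →* Module.End B (B ⊗[R] E))))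
  naturality φ g x := by
    change VecGrp.Wmap φ (act δ (ptHom g) x) = act δ (ptHom (VecGrp.ptMap φ ≫ g)) (VecGrp.Wmap φ x)
    rw [act_natural, ptHom_comp]

theorem gmodOfComod_apply (g : VecGrp.pt R B ⟶ specG R A) (x : E) :
    (gmodOfComod δ hco hcu).ρ B g (1 ⊗ₜ x) = TensorProduct.comm R E B ((ptHom g).toLinearMap.lTensor E (δ x)) :=
  act_one_tmul δ _ x

end Comodule

/-- A group module is determined by its values on 1 ⊗ x. -/
theorem gmod_ext {G : Over (Spec (CommRingCat.of R))} [GrpObj G] (m m' : VecGrp.GMod G E)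
    (h : ∀ (B : Type u) [CommRing B] [Algebra R B] (g : VecGrp.pt R B ⟶ G) (x : E),
      m.ρ B g (1 ⊗ₜ x) = m'.ρ B g (1 ⊗ₜ x)) : m = m' := by
  obtain ⟨ρ, n⟩ := m
  obtain ⟨ρ', n'⟩ := m'
  congr 1
  funext B _ _
  refine MonoidHom.ext fun g => LinearEquiv.ext fun y => ?_
  induction y using TensorProduct.induction_on with
  | zero => simp
  | add z w hz hw => simp only [map_add, hz, hw]
  | tmul b x =>
    rw [show b ⊗ₜ[R] x = b • ((1 : B) ⊗ₜ[R] x) by simp [TensorProduct.smul_tmul'], map_smul, map_smul]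
    exact congrArg (b • ·) (h B g x)

/-- The coaction of a group module. -/
noncomputable def coactOf (m : VecGrp.GMod (specG R A) E) : E →ₗ[R] E ⊗[R] A :=
  (TensorProduct.comm R A E).toLinearMap ∘ₗ
    ((m.ρ A (toPt (toConv (AlgHom.id R A)))).toLinearMap.restrictScalars R) ∘ₗ TensorProduct.mk R A E 1

theorem coactOf_spec (m : VecGrp.GMod (specG R A) E) (g : VecGrp.pt R B ⟶ specG R A) (x : E) :
    m.ρ B g (1 ⊗ₜ x) = TensorProduct.comm R E B ((ptHom g).toLinearMap.lTensor E (coactOf m x)) := by
  have h := m.naturality (ptHom g) (toPt (toConv (AlgHom.id R A))) ((1 : A) ⊗ₜ[R] x)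
  rw [ptMap_comp_toPt, VecGrp.Wmap_tmul, map_one] at h
  have e : toPt (toConv ((ptHom g).comp (toConv (AlgHom.id R A)).ofConv)) = g := toPt_ptHom g
  rw [e] at h
  rw [← h]
  simp only [coactOf, LinearMap.comp_apply, LinearEquiv.coe_coe, TensorProduct.mk_apply,
    LinearMap.restrictScalars_apply]
  generalize (m.ρ A (toPt (toConv (AlgHom.id R A)))) ((1 : A) ⊗ₜ[R] x) = z
  induction z using TensorProduct.induction_on with
  | zero => simp
  | add z w hz hw => simp only [map_add, hz, hw]
  | tmul a y => simp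

theorem coactOf_coassoc (m : VecGrp.GMod (specG R A) E) :
    (TensorProduct.assoc R E A A).toLinearMap ∘ₗ (coactOf m).rTensor A ∘ₗ coactOf m =
      (CoalgebraStruct.comul (R := R) (A := A)).lTensor E ∘ₗ coactOf m := by
  refine LinearMap.ext fun x => (TensorProduct.comm R E (A ⊗[R] A)).injective ?_
  let l : WithConv (A →ₐ[R] A ⊗[R] A) := toConv Algebra.TensorProduct.includeLeft
  let r : WithConv (A →ₐ[R] A ⊗[R] A) := toConv Algebra.TensorProduct.includeRight
  have hact : ∀ (f : WithConv (A →ₐ[R] A ⊗[R] A)) (z : (A ⊗[R] A) ⊗[R] E),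
      m.ρ _ (toPt f) z = act (coactOf m) f.ofConv z := by
    intro f z
    induction z using TensorProduct.induction_on with
    | zero => simp
    | add z w hz hw => simp only [map_add, hz, hw]
    | tmul b y =>
      rw [show b ⊗ₜ[R] y = b • ((1 : A ⊗[R] A) ⊗ₜ[R] y) by simp [TensorProduct.smul_tmul'],
        map_smul, map_smul, coactOf_spec, act_one_tmul, ptHom_toPt]
  have hlr : (l * r).ofConv = Bialgebra.comulAlgHom R A := by
    refine AlgHom.ext fun a => (AlgHom.convMul_apply _ _ _).trans ?_
    simp only [Bialgebra.comulAlgHom_apply]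
    induction Coalgebra.comul (R := R) a with
    | zero => simp
    | add z w hz hw => simp only [map_add, hz, hw]
    | tmul p q => simp [l, r]
  have h := congrArg (fun e : ((A ⊗[R] A) ⊗[R] E ≃ₗ[A ⊗[R] A] (A ⊗[R] A) ⊗[R] E) => e (1 ⊗ₜ x))
    ((m.ρ (A ⊗[R] A)).map_mul (toPt l) (toPt r))
  rw [LinearEquiv.mul_apply, hact, hact, act_act_one_tmul,
    show toPt l * toPt r = toPt (l * r) from (map_mul Spec.mapMulEquiv l r).symm, coactOf_spec, ptHom_toPt,
    hlr] at h
  have hid : (LinearMap.mul' R (A ⊗[R] A)) ∘ₗ TensorProduct.map l.ofConv.toLinearMap r.ofConv.toLinearMap =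
      LinearMap.id := TensorProduct.ext' fun p q => by simp [l, r]
  rw [hid, LinearMap.lTensor_id, LinearMap.id_apply] at h
  exact h.symm

theorem coactOf_counit (m : VecGrp.GMod (specG R A) E) :
    (CoalgebraStruct.counit (R := R) (A := A)).lTensor E ∘ₗ coactOf m = (TensorProduct.mk R E R).flip 1 := by
  refine LinearMap.ext fun x => (TensorProduct.comm R E R).injective ?_
  have h := coactOf_spec m (B := R) (toPt 1) x
  rw [ptHom_toPt, show toPt (1 : WithConv (A →ₐ[R] R)) = 1 from map_one Spec.mapMulEquiv, map_one] at h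
  simp only [LinearMap.comp_apply, LinearMap.flip_apply, TensorProduct.mk_apply, TensorProduct.comm_tmul]
  refine Eq.trans ?_ h.symm
  congr 2

end Groth.Agent.GModComod
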