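import Groth.Prelude.Def_VecGrp
import Mathlib.RingTheory.Localization.BaseChange
import Mathlib.RingTheory.Flat.Basic
import Mathlib.RingTheory.RingHom.Flat
import Mathlib.AlgebraicGeometry.Morphisms.Flat
import Mathlib.LinearAlgebra.TensorProduct.Pi
import Mathlib.RingTheory.Noetherian.Basic

/-! Every finitely generated submodule of a group module lies in a stable finitely generated one. -/

set_option autoImplicit false
universe u

open CategoryTheory AlgebraicGeometry MonoidalCategory CartesianMonoidalCategory MonObj GrpObj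
open scoped TensorProduct

namespace Groth.Agent.GModComod.Stable

variable {R : Type u} [CommRing R]

theorem mem_range_of_fg {C : Type u} [CommRing C] [Algebra R C] {E : Type u} [AddCommGroup E] [Module R E]
    (z : C ⊗[R] E) : ∃ N : Submodule R E, N.FG ∧ (N.mkQ).baseChange C z = 0 := by
  induction z using TensorProduct.induction_on with
  | zero => exact ⟨⊥, Submodule.fg_bot, map_zero _⟩
  | tmul c x =>
    exact ⟨R ∙ x, Submodule.fg_span_singleton x, by
      rw [LinearMap.baseChange_tmul, Submodule.mkQ_apply,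
        (Submodule.Quotient.mk_eq_zero _).2 (Submodule.mem_span_singleton_self x), TensorProduct.tmul_zero]⟩
  | add z w hz hw =>
    obtain ⟨N, hN, hz⟩ := hz
    obtain ⟨N', hN', hw⟩ := hw
    refine ⟨N ⊔ N', hN.sup hN', ?_⟩
    have key : ∀ (M M' : Submodule R E) (y : C ⊗[R] E), M ≤ M' → (M.mkQ).baseChange C y = 0 →
        (M'.mkQ).baseChange C y = 0 := fun M M' y h hy => by
      rw [show M'.mkQ = (Submodule.factor h) ∘ₗ M.mkQ from LinearMap.ext fun _ => rfl,
        LinearMap.baseChange_comp, LinearMap.comp_apply, hy, map_zero]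
    rw [map_add, key _ _ z le_sup_left hz, key _ _ w le_sup_right hw, add_zero]

theorem eq_zero_of_locally {B : Type u} [CommRing B] [Algebra R B] {F : Type u} [AddCommGroup F] [Module R F]
    (z : B ⊗[R] F)
    (h : ∀ p : PrimeSpectrum B, ∃ f : B, f ∉ p.asIdeal ∧
      (TensorProduct.AlgebraTensorModule.rTensor R F (Algebra.linearMap B (Localization.Away f))) z = 0) :
    z = 0 := by
  let ann : Ideal B := LinearMap.ker (LinearMap.toSpanSingleton B (B ⊗[R] F) z)
  have htop : ann = ⊤ := by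
    by_contra hne
    obtain ⟨m, hm, hle⟩ := Ideal.exists_le_maximal ann hne
    obtain ⟨f, hf, h0⟩ := h ⟨m, hm.isPrime⟩
    obtain ⟨⟨_, n, rfl⟩, hn⟩ := (IsLocalizedModule.eq_zero_iff (Submonoid.powers f)
      (TensorProduct.AlgebraTensorModule.rTensor R F (Algebra.linearMap B (Localization.Away f)))).1 h0
    exact hf (hm.isPrime.mem_of_pow_mem n (hle (show f ^ n ∈ ann from hn)))
  have h1 : (1 : B) ∈ ann := htop ▸ Submodule.mem_top
  exact (one_smul B z).symm.trans h1

section Main

variable (G : Over (Spec (CommRingCat.of R))) [GrpObj G] {E : Type u} [AddCommGroup E] [Module R E]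
variable {κ : Type u} (C : κ → Type u) [∀ i, CommRing (C i)] [∀ i, Algebra R (C i)]

theorem vanish_of_cover (u : ∀ i, VecGrp.pt R (C i) ⟶ G)
    (hcov : ∀ (B : Type u) [CommRing B] [Algebra R B] (g : VecGrp.pt R B ⟶ G) (p : PrimeSpectrum B),
      ∃ (f : B) (i : κ) (ψ : C i →ₐ[R] Localization.Away f), f ∉ p.asIdeal ∧
        VecGrp.ptMap ψ ≫ u i = VecGrp.ptMap (IsScalarTower.toAlgHom R B (Localization.Away f)) ≫ g)
    (m : VecGrp.GMod G E) {F : Type u} [AddCommGroup F] [Module R F] (q : E →ₗ[R] F) (x : E)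
    (hx : ∀ i, q.baseChange (C i) (m.ρ (C i) (u i) (1 ⊗ₜ x)) = 0)
    (B : Type u) [CommRing B] [Algebra R B] (g : VecGrp.pt R B ⟶ G) :
    q.baseChange B (m.ρ B g (1 ⊗ₜ x)) = 0 := by
  refine eq_zero_of_locally _ fun p => ?_
  obtain ⟨f, i, ψ, hf, hψ⟩ := hcov B g p
  refine ⟨f, hf, ?_⟩
  let loc := IsScalarTower.toAlgHom R B (Localization.Away f)
  have h1 : ∀ y : B ⊗[R] F, TensorProduct.AlgebraTensorModule.rTensor R F
      (Algebra.linearMap B (Localization.Away f)) y = VecGrp.Wmap loc y := fun y => by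
    induction y using TensorProduct.induction_on with
    | zero => simp
    | add z w hz hw => simp only [map_add, hz, hw]
    | tmul b y => rfl
  rw [h1, VecGrp.baseChange_natural, m.naturality, VecGrp.Wmap_tmul, map_one, ← hψ,
    ← map_one ψ, ← VecGrp.Wmap_tmul, ← m.naturality, ← VecGrp.baseChange_natural, hx i, map_zero]

theorem exists_stable [IsNoetherianRing R] [Finite κ] [∀ i, Module.Flat R (C i)]
    (u : ∀ i, VecGrp.pt R (C i) ⟶ G)
    (hcov : ∀ (B : Type u) [CommRing B] [Algebra R B] (g : VecGrp.pt R B ⟶ G) (p : PrimeSpectrum B),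
      ∃ (f : B) (i : κ) (ψ : C i →ₐ[R] Localization.Away f), f ∉ p.asIdeal ∧
        VecGrp.ptMap ψ ≫ u i = VecGrp.ptMap (IsScalarTower.toAlgHom R B (Localization.Away f)) ≫ g)
    (m : VecGrp.GMod G E) (M : Submodule R E) (hM : M.FG) :
    ∃ N : Submodule R E, M ≤ N ∧ N.FG ∧
      ∀ (B : Type u) [CommRing B] [Algebra R B] (g : VecGrp.pt R B ⟶ G) (x : E), x ∈ N →
        m.ρ B g ((1 : B) ⊗ₜ[R] x) ∈ LinearMap.range (N.subtype.baseChange B) := by
  classical
  cases nonempty_fintype κ
  obtain ⟨s, hs⟩ := hM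
  choose N₀ hN₀ hz using fun (p : κ × s) => mem_range_of_fg (m.ρ (C p.1) (u p.1) (1 ⊗ₜ[R] (p.2 : E)))
  let N' : Submodule R E := ⨆ p, N₀ p
  have hN' : N'.FG := Submodule.fg_iSup _ hN₀
  let F := E ⧸ N'
  let Φ : E →ₗ[R] (∀ i, C i ⊗[R] F) := LinearMap.pi fun i =>
    (N'.mkQ.baseChange (C i)).restrictScalars R ∘ₗ ((m.ρ (C i) (u i)).toLinearMap.restrictScalars R) ∘ₗ
      TensorProduct.mk R (C i) E 1
  let N : Submodule R E := LinearMap.ker Φ
  have hmem : ∀ x, x ∈ N ↔ ∀ i, N'.mkQ.baseChange (C i) (m.ρ (C i) (u i) (1 ⊗ₜ x)) = 0 := fun x => by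
    simp [N, Φ, funext_iff]
  have hle : N ≤ N' := fun x hx => by
    have h := vanish_of_cover G C u hcov m N'.mkQ x ((hmem x).1 hx) R 1
    rw [map_one, LinearEquiv.coe_one, id_eq, LinearMap.baseChange_tmul] at h
    have h2 := congrArg (TensorProduct.lid R F) h
    rw [TensorProduct.lid_tmul, one_smul, map_zero] at h2
    exact (Submodule.Quotient.mk_eq_zero _).1 h2
  have hfin : N.FG := by
    haveI := isNoetherian_of_fg_of_noetherian N' hN'
    have h := IsNoetherian.noetherian (Submodule.comap N'.subtype N)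
    have := h.map N'.subtype
    rwa [Submodule.map_comap_subtype, inf_eq_right.2 hle] at this
  refine ⟨N, ?_, hfin, fun B _ _ g x hx => ?_⟩
  · rw [← hs, Submodule.span_le]
    refine fun x hx => (hmem x).2 fun i => ?_
    rw [show N'.mkQ = (Submodule.factor (le_iSup N₀ (i, ⟨x, hx⟩))) ∘ₗ (N₀ (i, ⟨x, hx⟩)).mkQ from
      LinearMap.ext fun _ => rfl, LinearMap.baseChange_comp, LinearMap.comp_apply, hz (i, ⟨x, hx⟩), map_zero]
  · have hex : ∀ (S : Type u) [CommRing S] [Algebra R S] (z : S ⊗[R] E),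
        N.mkQ.baseChange S z = 0 → z ∈ LinearMap.range (N.subtype.baseChange S) := fun S _ _ z hz => by
      exact (lTensor_exact S (LinearMap.exact_subtype_mkQ N) N.mkQ_surjective z).1 hz
    refine hex B _ (vanish_of_cover G C u hcov m N.mkQ x (fun i => ?_) B g)
    set z := m.ρ (C i) (u i) (1 ⊗ₜ[R] x)
    have hΦ : Φ.lTensor (C i) z = 0 := by
      apply (TensorProduct.piRight R R (C i) fun j => C j ⊗[R] F).injective
      rw [map_zero]
      funext j
      let σ : C i →ₐ[R] C i ⊗[R] C j := Algebra.TensorProduct.includeLeft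
      let τ : C j →ₐ[R] C i ⊗[R] C j := Algebra.TensorProduct.includeRight
      have hlin : ∀ y : C i ⊗[R] E, TensorProduct.piRight R R (C i) (fun j => C j ⊗[R] F) (Φ.lTensor (C i) y) j =
          TensorProduct.assoc R (C i) (C j) F (N'.mkQ.baseChange _
            (m.ρ _ (VecGrp.ptMap τ ≫ u j) (VecGrp.Wmap σ y))) := by
        intro y
        induction y using TensorProduct.induction_on with
        | zero => simp
        | add z w hz hw => simp only [map_add, Pi.add_apply, hz, hw]
        | tmul c e =>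
          rw [VecGrp.Wmap_tmul, show σ c ⊗ₜ[R] e = σ c • ((1 : C i ⊗[R] C j) ⊗ₜ[R] e) by simp [TensorProduct.smul_tmul'],
            map_smul, map_smul, ← map_one τ, ← VecGrp.Wmap_tmul, ← m.naturality, ← VecGrp.baseChange_natural]
          simp only [LinearMap.lTensor_tmul, TensorProduct.piRight_apply, TensorProduct.piRightHom_tmul]
          simp only [Φ, LinearMap.pi_apply, LinearMap.comp_apply, TensorProduct.mk_apply,
            LinearMap.restrictScalars_apply, LinearEquiv.coe_coe]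
          generalize N'.mkQ.baseChange (C j) (m.ρ (C j) (u j) (1 ⊗ₜ[R] e)) = w
          induction w using TensorProduct.induction_on with
          | zero => simp
          | add z w hz hw => simp only [map_add, smul_add, TensorProduct.tmul_add, hz, hw]
          | tmul d f => simp [σ, τ, TensorProduct.smul_tmul', Algebra.TensorProduct.tmul_mul_tmul]
      rw [hlin, Pi.zero_apply, m.naturality, VecGrp.Wmap_tmul, map_one, ← LinearEquiv.mul_apply, ← map_mul,
        vanish_of_cover G C u hcov m N'.mkQ x ((hmem x).1 hx), map_zero]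
    obtain ⟨y, hy⟩ := (Module.Flat.lTensor_exact (C i) (LinearMap.exact_subtype_ker_map Φ) z).1 hΦ
    rw [← hy]
    exact (lTensor_exact (C i) (LinearMap.exact_subtype_mkQ N) N.mkQ_surjective _).2 ⟨y, rfl⟩

/-- The affine chart point of an affine open. -/
theorem exists_cover [Flat G.hom] [QuasiCompact G.hom] :
    ∃ (κ : Type u) (_ : Finite κ) (C : κ → Type u) (_ : ∀ i, CommRing (C i)) (_ : ∀ i, Algebra R (C i))
      (_ : ∀ i, Module.Flat R (C i)) (u : ∀ i, VecGrp.pt R (C i) ⟶ G),
      ∀ (B : Type u) [CommRing B] [Algebra R B] (g : VecGrp.pt R B ⟶ G) (p : PrimeSpectrum B),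
      ∃ (f : B) (i : κ) (ψ : C i →ₐ[R] Localization.Away f), f ∉ p.asIdeal ∧
        VecGrp.ptMap ψ ≫ u i = VecGrp.ptMap (IsScalarTower.toAlgHom R B (Localization.Away f)) ≫ g := by
  haveI : CompactSpace G.left := QuasiCompact.compactSpace_of_compactSpace G.hom
  let 𝒰 := G.left.affineCover.finiteSubcover
  let q : ∀ i : 𝒰.I₀, CommRingCat.of R ⟶ Γ(𝒰.X i, ⊤) := fun i =>
    (Scheme.ΓSpecIso (CommRingCat.of R)).inv ≫ (𝒰.f i ≫ G.hom).appTop
  haveI haff : ∀ i : 𝒰.I₀, IsAffine (𝒰.X i) := fun i => inferInstanceAs (IsAffine (G.left.affineCover.X _))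
  letI alg : ∀ i, Algebra R Γ(𝒰.X i, ⊤) := fun i => (q i).hom.toAlgebra
  have hq : ∀ i, (𝒰.X i).isoSpec.hom ≫ Spec.map (q i) = 𝒰.f i ≫ G.hom := fun i => by
    rw [Scheme.isoSpec_hom]
    simp only [q, Spec.map_comp]
    rw [← Scheme.toSpecΓ_naturality_assoc]
    simp
  let u : ∀ i, VecGrp.pt R Γ(𝒰.X i, ⊤) ⟶ G := fun i => Over.homMk ((𝒰.X i).isoSpec.inv ≫ 𝒰.f i) (by
    rw [Category.assoc, ← hq i, Iso.inv_hom_id_assoc]
    rfl)
  have hflat : ∀ i, Module.Flat R Γ(𝒰.X i, ⊤) := fun i => by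
    haveI : Flat ((𝒰.X i).isoSpec.inv ≫ (𝒰.f i ≫ G.hom)) := inferInstance
    have h : Flat (Spec.map (q i)) := by
      rwa [← hq i, Iso.inv_hom_id_assoc] at this
    exact (HasRingHomProperty.Spec_iff (P := @Flat)).1 h
  refine ⟨𝒰.I₀, inferInstance, fun i => Γ(𝒰.X i, ⊤), fun i => inferInstance, alg, hflat, u,
    fun B _ _ g p => ?_⟩
  obtain ⟨i, y, hy⟩ := 𝒰.exists_eq (g.left p)
  let V : TopologicalSpace.Opens (PrimeSpectrum B) := g.left ⁻¹ᵁ (𝒰.f i).opensRange
  obtain ⟨_, ⟨f, rfl⟩, hpf, hfV⟩ := PrimeSpectrum.isTopologicalBasis_basic_opens.exists_subset_of_mem_open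
    (show p ∈ (V : Set (PrimeSpectrum B)) from ⟨y, hy⟩) V.2
  let loc := IsScalarTower.toAlgHom R B (Localization.Away f)
  have hrange : Set.range (VecGrp.ptMap loc ≫ g).left ⊆ Set.range (𝒰.f i) := by
    rintro _ ⟨z, rfl⟩
    have hz : (Spec.map (CommRingCat.ofHom (algebraMap B (Localization.Away f)))) z ∈
        (PrimeSpectrum.basicOpen f : Set (PrimeSpectrum B)) := by
      rw [← PrimeSpectrum.localization_away_comap_range (Localization.Away f) f]
      exact ⟨z, rfl⟩
    exact hfV hz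
  let ψ₀ : Γ(𝒰.X i, ⊤) ⟶ CommRingCat.of (Localization.Away f) :=
    Spec.preimage (IsOpenImmersion.lift (𝒰.f i) _ hrange ≫ (𝒰.X i).isoSpec.hom)
  have hψ₀ : Spec.map ψ₀ ≫ (u i).left = (VecGrp.ptMap loc ≫ g).left := by
    simp only [ψ₀, u, Spec.map_preimage, Over.homMk_left, Category.assoc, Iso.hom_inv_id_assoc]
    exact IsOpenImmersion.lift_fac _ _ _
  have hcomm : q i ≫ ψ₀ = CommRingCat.ofHom (algebraMap R (Localization.Away f)) := by
    apply Spec.map_injective
    rw [Spec.map_comp]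
    have := congrArg (· ≫ G.hom) hψ₀
    simp only [Category.assoc] at this
    erw [Over.w (VecGrp.ptMap loc ≫ g), Over.w (u i)] at this
    exact this
  refine ⟨f, i, { ψ₀.hom with commutes' := fun r => congrArg (fun φ => φ.hom r) hcomm }, hpf, ?_⟩
  ext1
  exact hψ₀

end Main

end Groth.Agent.GModComod.Stable
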